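import Cfsg.Agent.Lib.Chev.ReeSylowTwo
import Mathlib.GroupTheory.Transfer
import Mathlib.GroupTheory.IndexNormal

/-! ²G₂(3) has a normal subgroup of index three avoiding the elements of order three fixed by the torus. -/

set_option autoImplicit false
set_option linter.unusedSectionVars false
set_option maxRecDepth 100000
set_option maxHeartbeats 1000000

namespace Cfsg.Lib.ReeThree

open Cfsg.Lie Cfsg.Lib.Chev Cfsg.Lib.Chev.G2Aut Cfsg.Lib.Chev.Ree

variable {K : Type*} [Field K] [Fintype K] [CharP K esymG2.p] (hK : Fintype.card K = 3 ^ (2 * 0 + 1))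
include hK

theorem card_three : Nat.card ↥(gG K 0) = 1512 := by rw [card_gG hK]; norm_num

theorem unit_cases (z : Kˣ) : z = 1 ∨ z = -1 := by
  have h : (z : K) ^ 2 = 1 := by
    have := FiniteField.pow_card_sub_one_eq_one (z : K) z.ne_zero
    rwa [show Fintype.card K - 1 = 2 by rw [hK]; norm_num] at this
  rcases sq_eq_one_iff.1 h with h | h
  · exact Or.inl (Units.ext h)
  · exact Or.inr (Units.ext (by rw [h]; rfl))

/-- A cyclic subgroup of order nine of the Sylow 3-subgroup inverted by the torus. -/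
theorem exists_inverted : ∃ y ∈ posG K 0, orderOf y = 9 ∧ invA hK * y * (invA hK)⁻¹ = y⁻¹ := by
  set a := invA hK with ha
  set X := eU hK 1 0 0 with hX
  have h2 : a * a = 1 := invA_sq hK
  have hai : a⁻¹ = a := inv_eq_of_mul_eq_one_right h2
  refine ⟨X * (a * X * a⁻¹)⁻¹, ?_, ?_, ?_⟩
  · exact mul_mem (eU_mem hK _ _ _) (inv_mem (by rw [ha, hX, invA_conj]; exact eU_mem hK _ _ _))
  · haveI : CharP K 3 := inferInstanceAs (CharP K esymG2.p)
    rw [ha, hX, invA_conj]
    obtain ⟨U, V, e⟩ := eU_inv_fst hK (-1 : K) 0 (-0)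
    obtain ⟨U', V', e'⟩ := eU_mul_fst hK 1 0 0 (- -1) U V
    rw [e, e']
    have h9 := pos_nine hK (eU_mem hK (1 + - -1) U' V')
    have hne : ¬ eU hK (1 + - -1) U' V' ^ 3 = 1 := by
      intro h
      have hne1 : eU hK (1 + - -1) U' V' ≠ 1 := fun h1 => by
        rw [← eU_zero hK] at h1
        have := (eU_inj hK h1).1
        exact neg_one_ne hK (by linear_combination -this)
      have hne1' : reeU 0 (1 + - -1 : K) U' V' ≠ 1 := fun h1 => hne1 (Subtype.ext h1)
      have h3 : orderOf (reeU 0 (1 + - -1 : K) U' V') = 3 := orderOf_eq_prime (congrArg Subtype.val h) hne1'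
      exact neg_one_ne hK (by linear_combination -((g2_orderOf_three hK _ _ _).1 h3).1)
    exact orderOf_eq_prime_pow (p := 3) (n := 1) (by simpa using hne) (by simpa using h9)
  · rw [hai]
    calc a * (X * (a * X * a)⁻¹) * a = a * X * a⁻¹ * X⁻¹ * a⁻¹ * a := by group
      _ = (X * (a * X * a)⁻¹)⁻¹ := by rw [hai]; simp [mul_assoc, hai, h2]

theorem mid_order : eU hK 0 1 0 ^ 3 = 1 ∧ eU hK 0 1 0 ≠ 1 :=
  ⟨eU_zero_cube hK 1 0, fun h => one_ne_zero (eU_inj hK (h.trans (eU_zero hK).symm)).2.1⟩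

theorem mid_fixed : invA hK * eU hK 0 1 0 * (invA hK)⁻¹ = eU hK 0 1 0 :=
  (invA_fix hK (eU_mem hK _ _ _)).2 ⟨1, rfl⟩

/-- A character of order three of the Borel subgroup. -/
theorem exists_borel_char : ∃ χ : ↥(borG K 0) →* Multiplicative (ZMod 3),
    χ ⟨eU hK 0 1 0, pos_le_bor (eU_mem hK _ _ _)⟩ ≠ 1 := by
  classical
  haveI : Fact (Nat.Prime 3) := ⟨Nat.prime_three⟩
  obtain ⟨y, hy, hy9, hinv⟩ := exists_inverted hK
  obtain ⟨hz3, hz1⟩ := mid_order hK
  set a := invA hK with ha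
  set z := eU hK 0 1 0 with hz
  have h2 : a * a = 1 := invA_sq hK
  have hai : a⁻¹ = a := inv_eq_of_mul_eq_one_right h2
  set W := Subgroup.zpowers y with hW
  have hWU : W ≤ posG K 0 := Subgroup.zpowers_le.2 hy
  have hWa : ∀ w ∈ W, a * w * a⁻¹ = w⁻¹ := by
    intro w hw
    obtain ⟨i, rfl⟩ := Subgroup.mem_zpowers_iff.1 hw
    rw [← conj_zpow, hinv, _root_.inv_zpow]
  have hUn : (W.subgroupOf (posG K 0)).Normal := by
    apply Subgroup.normal_of_index_eq_minFac_card
    have h27 : Nat.card ↥(posG K 0) = 27 := by rw [card_posG hK]; norm_num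
    have h := (W.subgroupOf (posG K 0)).card_mul_index
    rw [Nat.card_congr (Subgroup.subgroupOfEquivOfLe hWU).toEquiv, hW, Nat.card_zpowers, hy9, h27] at h
    rw [h27, show Nat.minFac 27 = 3 by norm_num]
    have h9 : 9 * (W.subgroupOf (posG K 0)).index = 27 := h
    omega
  have hzW : z ∉ W := fun h => by
    have h' := hWa z h
    rw [mid_fixed hK] at h'
    have h'' : z * z = 1 := mul_eq_one_iff_eq_inv.2 (hz.trans h')
    exact hz1 (by
      calc z = z * (z * z) := by rw [h'', mul_one]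
        _ = 1 := by rw [← pow_two, ← pow_succ']; exact hz3)
  -- the cosets of `W` in the unipotent group are the powers of `z`
  have hcos : ∀ u ∈ posG K 0, ∃ j : ℕ, u * z ^ j ∈ W := by
    haveI := hUn
    intro u hu
    have hq : Nat.card (↥(posG K 0) ⧸ W.subgroupOf (posG K 0)) = 3 := by
      have h := (W.subgroupOf (posG K 0)).card_mul_index
      rw [Nat.card_congr (Subgroup.subgroupOfEquivOfLe hWU).toEquiv, hW, Nat.card_zpowers, hy9,
        show Nat.card ↥(posG K 0) = 27 by rw [card_posG hK]; norm_num] at h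
      show (W.subgroupOf (posG K 0)).index = 3
      have h9 : 9 * (W.subgroupOf (posG K 0)).index = 27 := h
      omega
    let zb : ↥(posG K 0) ⧸ W.subgroupOf (posG K 0) := ((⟨z, eU_mem hK _ _ _⟩ : ↥(posG K 0)) : ↥(posG K 0) ⧸ _)
    have hzb : zb ≠ 1 := fun h => hzW (Subgroup.mem_subgroupOf.1 ((QuotientGroup.eq_one_iff _).1 h))
    have hgen := zpowers_eq_top_of_prime_card hq hzb
    obtain ⟨j, hj⟩ : ((⟨u, hu⟩ : ↥(posG K 0)) : ↥(posG K 0) ⧸ W.subgroupOf (posG K 0))⁻¹ ∈ Submonoid.powers zb := by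
      rw [mem_powers_iff_mem_zpowers, hgen]; trivial
    refine ⟨j, ?_⟩
    have h : (((⟨u, hu⟩ : ↥(posG K 0)) * (⟨z, eU_mem hK _ _ _⟩ : ↥(posG K 0)) ^ j : ↥(posG K 0)) :
        ↥(posG K 0) ⧸ W.subgroupOf (posG K 0)) = 1 := by
      rw [QuotientGroup.mk_mul, QuotientGroup.mk_pow]
      show _ * zb ^ j = 1
      have hj' : zb ^ j = _ := hj
      rw [hj', mul_inv_cancel]
    exact Subgroup.mem_subgroupOf.1 ((QuotientGroup.eq_one_iff _).1 h)
  have haU : a ∉ posG K 0 := fun h => by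
    have h9 := pos_nine hK h
    rw [show 9 = 2 * 4 + 1 from rfl, pow_succ, pow_mul, pow_two, h2, one_pow, one_mul] at h9
    exact invA_ne_one hK h9
  let H : Subgroup ↥(gG K 0) :=
    { carrier := {g | g ∈ W ∨ g * a ∈ W}
      one_mem' := Or.inl W.one_mem
      mul_mem' := by
        rintro g h (hg | hg) (hh | hh)
        · exact Or.inl (mul_mem hg hh)
        · exact Or.inr (by rw [mul_assoc]; exact mul_mem hg hh)
        · refine Or.inr ?_
          rw [show g * h * a = g * a * (a⁻¹ * h * a) by group]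
          refine mul_mem hg ?_
          have := hWa h hh
          rw [hai] at this ⊢
          rw [this]; exact inv_mem hh
        · refine Or.inl ?_
          rw [show g * h = g * a * (a⁻¹ * (h * a) * a⁻¹) by group]
          refine mul_mem hg ?_
          have := hWa _ hh
          rw [hai] at this ⊢
          rw [this]; exact inv_mem hh
      inv_mem' := by
        rintro g (hg | hg)
        · exact Or.inl (inv_mem hg)
        · refine Or.inr ?_
          rw [show g⁻¹ * a = a * (g * a)⁻¹ * a by group, show a * (g * a)⁻¹ * a = a * (g * a)⁻¹ * a⁻¹ by rw [hai],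
            hWa _ (inv_mem hg), inv_inv]
          exact hg }
  have hB : ∀ g ∈ borG K 0, g ∈ posG K 0 ∨ g * a ∈ posG K 0 := by
    intro g hg
    obtain ⟨u, hu, t, rfl⟩ := borG_parts hK hg
    rcases unit_cases hK t with rfl | rfl
    · exact Or.inl (by rw [eT_one, mul_one]; exact hu)
    · exact Or.inr (by rw [mul_assoc]; show u * (a * a) ∈ _; rw [h2, mul_one]; exact hu)
  have haB : a ∈ borG K 0 := Subgroup.mem_subgroupOf.2 (Subgroup.mem_sup_right (eT_mem hK _))
  have hzfix : ∀ j : ℕ, a * z ^ j * a⁻¹ = z ^ j := fun j => by rw [← conj_pow, mid_fixed hK]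
  haveI hHn : (H.subgroupOf (borG K 0)).Normal := by
    refine ⟨fun h hh g => ?_⟩
    rw [Subgroup.mem_subgroupOf] at hh ⊢
    have hW' : ∀ u ∈ posG K 0, ∀ w ∈ W, u * w * u⁻¹ ∈ W := fun u hu w hw =>
      Subgroup.mem_subgroupOf.1 (hUn.conj_mem ⟨w, hWU hw⟩ (Subgroup.mem_subgroupOf.2 hw) ⟨u, hu⟩)
    have hUa : ∀ u ∈ posG K 0, u * (a * u⁻¹ * a⁻¹) ∈ W := by
      intro u hu
      obtain ⟨j, hj⟩ := hcos u hu
      have e : u * (a * u⁻¹ * a⁻¹) = (u * z ^ j) * ((a * z ^ j * a⁻¹)⁻¹ * z ^ j)⁻¹ * (a * (u * z ^ j)⁻¹ * a⁻¹) := by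
        rw [hzfix]
        calc u * (a * u⁻¹ * a⁻¹) = u * (a * z ^ j * a⁻¹) * (a * (u * z ^ j)⁻¹ * a⁻¹) := by group
          _ = _ := by rw [hzfix]; group
      rw [e, hzfix, inv_mul_cancel, inv_one, mul_one, hWa _ (inv_mem hj), inv_inv]
      exact mul_mem hj hj
    have hU : ∀ u ∈ posG K 0, ∀ x : ↥(gG K 0), x ∈ H → u * x * u⁻¹ ∈ H := by
      rintro u hu x (hx | hx)
      · exact Or.inl (hW' u hu x hx)
      · refine Or.inr ?_
        rw [show u * x * u⁻¹ * a = u * (x * a) * u⁻¹ * (u * (a⁻¹ * u⁻¹ * a)) by group, hai]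
        refine mul_mem (hW' u hu _ hx) ?_
        have := hUa u hu
        rwa [hai] at this
    rcases hB g g.2 with hg | hg
    · exact hU g hg h hh
    · have ha' : a * (h : ↥(gG K 0)) * a⁻¹ ∈ H :=
        H.mul_mem (H.mul_mem (Or.inr (by rw [h2]; exact W.one_mem)) hh) (inv_mem (Or.inr (by rw [h2]; exact W.one_mem)))
      have := hU _ hg _ ha'
      show (g : ↥(gG K 0)) * h * (g : ↥(gG K 0))⁻¹ ∈ H
      convert this using 1
      calc (g : ↥(gG K 0)) * h * (g : ↥(gG K 0))⁻¹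
          = (g : ↥(gG K 0)) * (a * a) * h * (a * a)⁻¹ * (g : ↥(gG K 0))⁻¹ := by rw [h2]; group
        _ = _ := by group
  let zB : ↥(borG K 0) := ⟨z, pos_le_bor (eU_mem hK _ _ _)⟩
  have hzH : z ∉ H := by
    rintro (h | h)
    · exact hzW h
    · exact haU (by
        have := mul_mem (inv_mem (eU_mem hK 0 1 0)) (hWU h)
        rwa [← hz, inv_mul_cancel_left] at this)
  let Q := ↥(borG K 0) ⧸ H.subgroupOf (borG K 0)
  let zq : Q := (zB : Q)
  have hzq : zq ≠ 1 := fun h => hzH (Subgroup.mem_subgroupOf.1 ((QuotientGroup.eq_one_iff _).1 h))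
  have hzq3 : zq ^ 3 = 1 := by
    show ((zB : Q)) ^ 3 = 1
    rw [← QuotientGroup.mk_pow, show zB ^ 3 = 1 from Subtype.ext hz3]; rfl
  have hgen : Subgroup.zpowers zq = ⊤ := by
    refine eq_top_iff.2 fun x _ => ?_
    obtain ⟨g, rfl⟩ := QuotientGroup.mk_surjective x
    obtain ⟨j, hj⟩ : ∃ j : ℕ, (g : ↥(gG K 0)) * z ^ j ∈ H := by
      rcases hB g g.2 with hg | hg
      · obtain ⟨j, hj⟩ := hcos _ hg
        exact ⟨j, Or.inl hj⟩
      · obtain ⟨j, hj⟩ := hcos _ hg
        refine ⟨j, Or.inr ?_⟩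
        have : z ^ j * a = a * z ^ j := (mul_inv_eq_iff_eq_mul.1 (hzfix j)).symm
        rw [mul_assoc, this, ← mul_assoc]
        exact hj
    have : ((g * zB ^ j : ↥(borG K 0)) : Q) = 1 := (QuotientGroup.eq_one_iff _).2 (Subgroup.mem_subgroupOf.2 hj)
    rw [QuotientGroup.mk_mul, QuotientGroup.mk_pow, mul_eq_one_iff_eq_inv] at this
    rw [this]
    exact inv_mem (Subgroup.pow_mem _ (Subgroup.mem_zpowers _) _)
  have hQ : Nat.card Q = 3 := by
    rw [← Subgroup.card_top, ← hgen, Nat.card_zpowers]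
    exact orderOf_eq_prime hzq3 hzq
  let e : Q ≃* Multiplicative (ZMod 3) := mulEquivOfPrimeCardEq (p := 3) hQ (by simp)
  exact ⟨e.toMonoidHom.comp (QuotientGroup.mk' _), fun h => hzq ((MulEquiv.map_eq_one_iff e).1 h)⟩

/-- An element conjugating a nontrivial positive element into the Borel subgroup lies there, for elements of order three. -/
theorem mem_bor_of_conj {g x : ↥(gG K 0)} (hx : x ∈ posG K 0) (hx1 : x ≠ 1) (hy : g⁻¹ * x * g ∈ posG K 0) :
    g ∈ borG K 0 := by
  obtain ⟨n, hn⟩ := G2Aut.exists_long hK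
  rcases hn.cells g with hg | ⟨b, hb, c, hc, rfl⟩
  · exact hg
  exfalso
  have h1 : b⁻¹ * x * b⁻¹⁻¹ ∈ posG K 0 := bor_norm (inv_mem hb) hx
  have h2 := (hn.pos_neg _ (mul_mem (mul_mem hc hy) (inv_mem hc))).1
  rw [show n * (c * ((b * n * c)⁻¹ * x * (b * n * c)) * c⁻¹) * n⁻¹ = b⁻¹ * x * b⁻¹⁻¹ by group] at h2
  exact hx1 (conj_eq_one_iff.1 (bor_neg (pos_le_bor h1) h2))

/-- The normal subgroup of index three. -/
theorem exists_index_three : ∃ φ : ↥(gG K 0) →* Multiplicative (ZMod 3), φ (eU hK 0 1 0) ≠ 1 := by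
  classical
  obtain ⟨χ, hχ⟩ := exists_borel_char hK
  obtain ⟨hz3, hz1⟩ := mid_order hK
  set z := eU hK 0 1 0 with hz
  have hzB : z ∈ borG K 0 := pos_le_bor (eU_mem hK _ _ _)
  haveI := Fintype.ofFinite (Quotient (MulAction.orbitRel (Subgroup.zpowers z) (↥(gG K 0) ⧸ borG K 0)))
  refine ⟨MonoidHom.transfer χ, ?_⟩
  rw [MonoidHom.transfer_eq_prod_quotient_orbitRel_zpowers_quot]
  set q0 : Quotient (MulAction.orbitRel (Subgroup.zpowers z) (↥(gG K 0) ⧸ borG K 0)) :=
    Quotient.mk'' ((1 : ↥(gG K 0)) : ↥(gG K 0) ⧸ borG K 0) with hq0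
  -- the only fixed coset is that of the Borel subgroup
  have hfix : ∀ s : ↥(gG K 0) ⧸ borG K 0, z • s = s → s = ((1 : ↥(gG K 0)) : ↥(gG K 0) ⧸ borG K 0) := by
    intro s hs
    obtain ⟨g, rfl⟩ := QuotientGroup.mk_surjective s
    rw [MulAction.Quotient.smul_coe, QuotientGroup.eq, smul_eq_mul, _root_.mul_inv_rev] at hs
    have hy : g⁻¹ * z⁻¹ * g ∈ posG K 0 := by
      obtain ⟨u, hu, t, e⟩ := borG_parts hK hs
      rcases unit_cases hK t with rfl | rfl
      · rw [e, eT_one, mul_one]; exact hu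
      · exfalso
        have h3 : (g⁻¹ * z⁻¹ * g) ^ 3 = 1 := by
          have := conj_pow (a := g⁻¹) (b := z⁻¹) (i := 3)
          rw [inv_inv] at this
          rw [this, inv_pow, hz3, inv_one, mul_one, inv_mul_cancel]
        rw [e] at h3
        have ha2 : eT hK (-1) * eT hK (-1) = (1 : ↥(gG K 0)) := invA_sq hK
        obtain ⟨w, hw, hw'⟩ : ∃ w ∈ posG K 0, (u * eT hK (-1)) ^ 3 = w * eT hK (-1) := by
          refine ⟨u * (eT hK (-1) * u * (eT hK (-1))⁻¹) * u, mul_mem (mul_mem hu ?_) hu, ?_⟩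
          · exact bor_norm (Subgroup.mem_subgroupOf.2 (Subgroup.mem_sup_right (eT_mem hK _))) hu
          · rw [inv_eq_of_mul_eq_one_right ha2, pow_succ, pow_two]
            group
        rw [hw', mul_eq_one_iff_eq_inv] at h3
        have h9 := pos_nine hK hw
        rw [h3, inv_eq_of_mul_eq_one_right ha2, show 9 = 2 * 4 + 1 from rfl, pow_succ, pow_mul, pow_two, ha2,
          one_pow, one_mul] at h9
        exact invA_ne_one hK h9
    have hg : g ∈ borG K 0 := mem_bor_of_conj hK (inv_mem (eU_mem hK 0 1 0)) (inv_ne_one.2 hz1) hy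
    exact (QuotientGroup.eq.2 (by rw [inv_one, one_mul]; exact hg)).symm
  have hper : ∀ q : Quotient (MulAction.orbitRel (Subgroup.zpowers z) (↥(gG K 0) ⧸ borG K 0)),
      Function.minimalPeriod (z • ·) q.out = 1 ∨ Function.minimalPeriod (z • ·) q.out = 3 := by
    intro q
    refine (Nat.dvd_prime Nat.prime_three).1 (Function.IsPeriodicPt.minimalPeriod_dvd ?_)
    show (z • ·)^[3] q.out = q.out
    rw [smul_iterate]
    show z ^ 3 • q.out = q.out
    rw [hz3, one_smul]
  rw [Finset.prod_eq_single q0]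
  · have hout : q0.out = ((1 : ↥(gG K 0)) : ↥(gG K 0) ⧸ borG K 0) := by
      have hr : q0.out ∈ MulAction.orbit (Subgroup.zpowers z) ((1 : ↥(gG K 0)) : ↥(gG K 0) ⧸ borG K 0) :=
        Quotient.exact' (Quotient.out_eq' q0)
      obtain ⟨⟨w, hw⟩, hr⟩ := hr
      rw [← hr]
      show w • ((1 : ↥(gG K 0)) : ↥(gG K 0) ⧸ borG K 0) = _
      rw [MulAction.Quotient.smul_coe, smul_eq_mul, mul_one, QuotientGroup.eq, mul_one]
      exact inv_mem (Subgroup.zpowers_le.2 hzB hw)
    have h1 : Function.minimalPeriod (z • ·) q0.out = 1 := by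
      rw [Function.minimalPeriod_eq_one_iff_isFixedPt]
      show z • q0.out = q0.out
      rw [hout, MulAction.Quotient.smul_coe, smul_eq_mul, mul_one, QuotientGroup.eq, mul_one]
      exact inv_mem hzB
    have hb : q0.out.out ∈ borG K 0 := by
      have : ((q0.out.out : ↥(gG K 0)) : ↥(gG K 0) ⧸ borG K 0) = ((1 : ↥(gG K 0)) : _) := by
        rw [QuotientGroup.out_eq']; exact hout
      rw [QuotientGroup.eq, mul_one] at this
      simpa using inv_mem this
    have hv : (⟨q0.out.out⁻¹ * z ^ Function.minimalPeriod (z • ·) q0.out * q0.out.out,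
        QuotientGroup.out_conj_pow_minimalPeriod_mem (borG K 0) z q0.out⟩ : ↥(borG K 0)) =
        (⟨_, hb⟩ : ↥(borG K 0))⁻¹ * ⟨z, hzB⟩ * ⟨_, hb⟩ := Subtype.ext (by
          show q0.out.out⁻¹ * z ^ Function.minimalPeriod (z • ·) q0.out * q0.out.out = _
          rw [h1, pow_one]; rfl)
    rw [hv, map_mul, map_mul, map_inv, mul_comm, ← mul_assoc, mul_inv_cancel, one_mul]
    exact hχ
  · intro q _ hq
    rcases hper q with h | h
    · exfalso
      rw [Function.minimalPeriod_eq_one_iff_isFixedPt] at h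
      refine hq ?_
      rw [hq0, ← hfix q.out h]
      exact (Quotient.out_eq' q).symm
    · have : (⟨q.out.out⁻¹ * z ^ Function.minimalPeriod (z • ·) q.out * q.out.out,
        QuotientGroup.out_conj_pow_minimalPeriod_mem (borG K 0) z q.out⟩ : ↥(borG K 0)) = 1 := Subtype.ext (by
          show q.out.out⁻¹ * z ^ Function.minimalPeriod (z • ·) q.out * q.out.out = 1
          rw [h, hz3, mul_one, inv_mul_cancel])
      rw [this, map_one]
  · exact fun h => absurd (Finset.mem_univ _) h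

end Cfsg.Lib.ReeThree
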