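import Cfsg.Agent.Lib.ReeThree.Index
import Cfsg.Agent.Lib.Coprime.Generation

/-! The normal subgroup of index three in ²G₂(3) is simple. -/

set_option autoImplicit false
set_option linter.unusedSectionVars false
set_option maxRecDepth 100000
set_option maxHeartbeats 1000000

namespace Cfsg.Lib.ReeThree

open scoped commutatorElement

open Cfsg.Lie Cfsg.Lib.Chev Cfsg.Lib.Chev.G2Aut Cfsg.Lib.Chev.Ree

variable {K : Type*} [Field K] [Fintype K] [CharP K esymG2.p] (hK : Fintype.card K = 3 ^ (2 * 0 + 1))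
include hK

theorem card_two_sylows : Nat.card (Sylow 2 ↥(gG K 0)) = 9 := by
  haveI : Fact (Nat.Prime 2) := ⟨Nat.prime_two⟩
  obtain ⟨S⟩ : Nonempty (Sylow 2 ↥(gG K 0)) := inferInstance
  have h := (Subgroup.normalizer ((S : Subgroup ↥(gG K 0)) : Set ↥(gG K 0))).card_mul_index
  rw [(sylow_two_normalizer hK S).2, card_three hK, show (Subgroup.normalizer ((S : Subgroup ↥(gG K 0)) : Set ↥(gG K 0))).index =
    Nat.card (Sylow 2 ↥(gG K 0)) from S.card_eq_index_normalizer.symm] at h
  omega

set_option maxHeartbeats 2000000 in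
/-- The commutator subgroup has order 504 and is simple. -/
theorem commutator_simple :
    Nat.card ↥(commutator ↥(gG K 0)) = 504 ∧ IsSimpleGroup ↥(commutator ↥(gG K 0)) := by
  classical
  haveI : Fact (Nat.Prime 2) := ⟨Nat.prime_two⟩
  haveI : Fact (Nat.Prime 3) := ⟨Nat.prime_three⟩
  set G := ↥(gG K 0) with hG
  haveI : Fact (Nat.Prime (Nat.card (Multiplicative (ZMod 3)))) := ⟨by simp [Nat.prime_three]⟩
  obtain ⟨φ, hφ⟩ := exists_index_three hK
  obtain ⟨hz3, hz1⟩ := mid_order hK
  set a := invA hK with ha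
  set z := eU hK 0 1 0 with hz
  set N := φ.ker with hN
  haveI : N.Normal := φ.normal_ker
  have hr : φ.range = ⊤ :=
    (Subgroup.eq_bot_or_eq_top_of_prime_card φ.range).resolve_left fun h => hφ (by
      have : φ z ∈ φ.range := ⟨z, rfl⟩
      rwa [h, Subgroup.mem_bot] at this)
  have hidx : N.index = 3 := by
    rw [hN, Subgroup.index_ker, hr, Subgroup.card_top]; simp
  have hN504 : Nat.card ↥N = 504 := by
    have h := N.card_mul_index
    rw [hidx, card_three hK] at h
    omega
  -- the elements of order dividing eight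
  have htwo : ∀ (S : Sylow 2 G) (x : G), x ∈ S → x ∈ N := by
    intro S x hx
    have h2 := sylow_two_elementary hK S hx
    have h3 : φ x ^ 3 = 1 := by
      have := pow_card_eq_one' (x := φ x)
      simpa using this
    rw [hN, MonoidHom.mem_ker]
    have h2' : φ x * φ x = 1 := by rw [← map_mul, h2, map_one]
    calc φ x = φ x ^ 3 := by rw [pow_succ, pow_two, h2', one_mul]
      _ = 1 := h3
  have hinv : ∀ x : G, x * x = 1 → x ∈ N := by
    intro x hx
    obtain ⟨n, -, hn⟩ := (Nat.dvd_prime_pow Nat.prime_two (m := 1)).1 (orderOf_dvd_of_pow_eq_one (x := x)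
      (by rw [pow_one, pow_two]; exact hx))
    obtain ⟨S, hS⟩ := (IsPGroup.of_card (p := 2) (n := n) (by rw [Nat.card_zpowers, hn]) :
      IsPGroup 2 ↥(Subgroup.zpowers x)).exists_le_sylow
    exact htwo S x (hS (Subgroup.mem_zpowers x))
  -- conjugacy of involutions inside N
  have hza : z * a * z⁻¹ = a := by
    have h : a * z = z * a := mul_inv_eq_iff_eq_mul.1 (mid_fixed hK)
    rw [← h, mul_inv_cancel_right]
  have hconj : ∀ x : G, x * x = 1 → x ≠ 1 → ∃ k ∈ N, k * a * k⁻¹ = x := by
    intro x hx hx1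
    obtain ⟨g, hg⟩ := invol_conj hK hx hx1
    obtain ⟨j, hj⟩ : φ g ∈ Submonoid.powers (φ z) := by
      rw [mem_powers_iff_mem_zpowers, zpowers_eq_top_of_prime_card (by simp : Nat.card (Multiplicative (ZMod 3)) = 3) hφ]
      trivial
    refine ⟨g * (z ^ j)⁻¹, ?_, ?_⟩
    · rw [hN, MonoidHom.mem_ker, map_mul, map_inv, map_pow]
      exact mul_inv_eq_one.2 hj.symm
    · have : ∀ i : ℕ, z ^ i * a * (z ^ i)⁻¹ = a := by
        intro i
        induction i with
        | zero => simp
        | succ i ih =>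
          rw [pow_succ, show z ^ i * z * a * (z ^ i * z)⁻¹ = z ^ i * (z * a * z⁻¹) * (z ^ i)⁻¹ by group, hza, ih]
      calc g * (z ^ j)⁻¹ * a * (g * (z ^ j)⁻¹)⁻¹ = g * (z ^ j)⁻¹ * (z ^ j * a * (z ^ j)⁻¹) * (g * (z ^ j)⁻¹)⁻¹ := by
            rw [this]
        _ = g * a * g⁻¹ := by group
        _ = x := hg
  -- centralisers of involutions in N
  have hCa : Nat.card ↥(N ⊓ Subgroup.centralizer ({a} : Set G)) = 8 := by
    set C := Subgroup.centralizer ({a} : Set G) with hC
    have h24 : Nat.card ↥C = 24 := by rw [hC, card_centralizer hK, hK]; norm_num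
    have hrg : (φ.comp C.subtype).range = ⊤ :=
      (Subgroup.eq_bot_or_eq_top_of_prime_card (φ.comp C.subtype).range).resolve_left fun h => hφ (by
        have hzC : z ∈ C := Subgroup.mem_centralizer_singleton_iff.2 (by
          nth_rewrite 2 [← hza]
          group)
        have : φ z ∈ (φ.comp C.subtype).range := ⟨⟨z, hzC⟩, rfl⟩
        rwa [h, Subgroup.mem_bot] at this)
    have h3 : (N.subgroupOf C).index = 3 := by
      rw [show N.subgroupOf C = (φ.comp C.subtype).ker from rfl, Subgroup.index_ker, hrg, Subgroup.card_top]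
      simp
    have h := (N.subgroupOf C).card_mul_index
    rw [h3, h24] at h
    rw [← Nat.card_congr (Subgroup.subgroupOfEquivOfLe (inf_le_right : N ⊓ C ≤ C)).toEquiv,
      Subgroup.inf_subgroupOf_right]
    omega
  have hCS : ∀ (S : Sylow 2 G) (s : G), s ∈ S → s ≠ 1 →
      N ⊓ Subgroup.centralizer ({s} : Set G) = (S : Subgroup G) := by
    intro S s hs hs1
    obtain ⟨k, hk, hks⟩ := hconj s (sylow_two_elementary hK S hs) hs1
    refine (Subgroup.eq_of_le_of_card_ge ?_ ?_).symm
    · intro x hx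
      refine ⟨htwo S x hx, Subgroup.mem_centralizer_singleton_iff.2 ?_⟩
      have := sylow_two_elementary hK S (mul_mem hx hs)
      have hxx := sylow_two_elementary hK S hx
      have hss := sylow_two_elementary hK S hs
      calc x * s = (x * s)⁻¹ := (inv_eq_of_mul_eq_one_right this).symm
        _ = s⁻¹ * x⁻¹ := mul_inv_rev _ _
        _ = s * x := by rw [inv_eq_of_mul_eq_one_right hxx, inv_eq_of_mul_eq_one_right hss]
    · rw [MultW.ree_two_card hK S, ← hCa]
      refine (Nat.card_le_card_of_injective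
        (fun x => (⟨k⁻¹ * (x : G) * k, ?_, ?_⟩ : ↥(N ⊓ Subgroup.centralizer ({a} : Set G)))) ?_)
      · exact N.mul_mem (N.mul_mem (N.inv_mem hk) x.2.1) hk
      · refine Subgroup.mem_centralizer_singleton_iff.2 ?_
        have hxs : (x : G) * (k * a * k⁻¹) = k * a * k⁻¹ * (x : G) :=
          (congrArg ((x : G) * ·) hks).trans
            ((Subgroup.mem_centralizer_singleton_iff.1 x.2.2).trans (congrArg (· * (x : G)) hks.symm))
        calc k⁻¹ * (x : G) * k * a = k⁻¹ * ((x : G) * (k * a * k⁻¹)) * k := by group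
          _ = _ := by rw [hxs]; group
      · intro x y h
        exact Subtype.ext (mul_left_cancel (mul_right_cancel (congrArg Subtype.val h)))
  -- normal subgroups of N
  have odd_case : ∀ M : Subgroup G, M ≤ N → N ≤ Subgroup.normalizer (M : Set G) → ¬ 2 ∣ Nat.card ↥M → M = ⊥ := by
    intro M hM hn hodd
    obtain ⟨S⟩ : Nonempty (Sylow 2 G) := inferInstance
    haveI : IsMulCommutative ↥(S : Subgroup G) := ⟨⟨fun x y => Subtype.ext (by
      have hxy := sylow_two_elementary hK S (mul_mem x.2 y.2)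
      calc (x : G) * y = ((x : G) * y)⁻¹ := (inv_eq_of_mul_eq_one_right hxy).symm
        _ = (y : G)⁻¹ * (x : G)⁻¹ := mul_inv_rev _ _
        _ = (y : G) * x := by
          rw [inv_eq_of_mul_eq_one_right (sylow_two_elementary hK S x.2),
            inv_eq_of_mul_eq_one_right (sylow_two_elementary hK S y.2)])⟩⟩
    have hnc : ¬ IsCyclic ↥(S : Subgroup G) := fun hcy => by
      obtain ⟨g, hg⟩ := hcy.exists_ofOrder_eq_natCard
      rw [MultW.ree_two_card hK S] at hg
      have h2 : g ^ 2 = 1 := Subtype.ext (by rw [pow_two]; exact sylow_two_elementary hK S g.2)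
      have := Nat.le_of_dvd (by norm_num) (orderOf_dvd_of_pow_eq_one h2)
      omega
    have h := Cfsg.Lib.Coprime.le_iSup_centralizer_of_not_isCyclic (G := M) hnc
      (fun x hx => hn (htwo S x hx)) (by
        rw [MultW.ree_two_card hK S]
        exact Nat.Coprime.pow_left 3 ((Nat.Prime.coprime_iff_not_dvd Nat.prime_two).2 hodd))
    refine le_bot_iff.1 (h.trans (iSup_le fun s => ?_))
    have hle : M ⊓ Subgroup.centralizer ({(s : G)} : Set G) ≤ M ⊓ (S : Subgroup G) :=
      le_inf inf_le_left ((inf_le_inf hM le_rfl).trans (hCS S s s.2.1 s.2.2).le)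
    refine hle.trans (le_bot_iff.2 (Subgroup.inf_eq_bot_of_coprime ?_))
    rw [MultW.ree_two_card hK S]
    exact (Nat.Coprime.pow_left 3 ((Nat.Prime.coprime_iff_not_dvd Nat.prime_two).2 hodd)).symm
  have hsimple : ∀ M : Subgroup G, M ≤ N → N ≤ Subgroup.normalizer (M : Set G) → M = ⊥ ∨ M = N := by
    intro M hM hn
    by_cases heven : 2 ∣ Nat.card ↥M
    swap
    · exact Or.inl (odd_case M hM hn heven)
    right
    obtain ⟨s, hs⟩ := exists_prime_orderOf_dvd_card' 2 heven
    have hs2 : (s : G) * s = 1 := by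
      have := pow_orderOf_eq_one s
      rw [hs, pow_two] at this
      exact congrArg Subtype.val this
    have hs1 : (s : G) ≠ 1 := fun h => by
      rw [← Subgroup.orderOf_coe, h, orderOf_one] at hs; omega
    obtain ⟨k, hk, hks⟩ := hconj _ hs2 hs1
    have hallinv : ∀ x : G, x * x = 1 → x ∈ M := by
      intro x hx
      by_cases hx1 : x = 1
      · rw [hx1]; exact M.one_mem
      obtain ⟨l, hl, hlx⟩ := hconj x hx hx1
      rw [← hlx, show l * a * l⁻¹ = (l * k⁻¹) * (k * a * k⁻¹) * (l * k⁻¹)⁻¹ by group, hks]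
      exact (Subgroup.mem_normalizer_iff.1 (hn (mul_mem hl (inv_mem hk))) _).1 s.2
    have hSM : ∀ S : Sylow 2 G, (S : Subgroup G) ≤ M := fun S x hx => hallinv x (sylow_two_elementary hK S hx)
    obtain ⟨S⟩ : Nonempty (Sylow 2 G) := inferInstance
    let T : Sylow 2 ↥M := S.subtype (hSM S)
    have hnine : Nat.card (Sylow 2 ↥M) = 9 := by
      rw [← card_two_sylows hK]
      refine (Nat.card_eq_of_bijective (fun P : Sylow 2 G => P.subtype (hSM P))
        ⟨fun P Q h => Sylow.subtype_injective h, fun Q => ?_⟩).symm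
      obtain ⟨P, hP⟩ := (Q.2.map M.subtype).exists_le_sylow
      refine ⟨P, Sylow.ext ?_⟩
      refine (Q.3 (P.subtype (hSM P)).2 fun x hx => ?_).le.antisymm (le_of_eq ?_)
      · exact Subgroup.mem_subgroupOf.2 (hP ⟨x, hx, rfl⟩)
      · exact (Q.3 (P.subtype (hSM P)).2 fun x hx => Subgroup.mem_subgroupOf.2 (hP ⟨x, hx, rfl⟩)).symm
    have hT8 : Nat.card ↥(T : Subgroup ↥M) = 8 := by
      rw [Sylow.coe_subtype, Nat.card_congr (Subgroup.subgroupOfEquivOfLe (hSM S)).toEquiv, MultW.ree_two_card hK S]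
    set NT := Subgroup.normalizer ((T : Subgroup ↥M) : Set ↥M) with hNT
    have hidxM := NT.card_mul_index
    rw [show NT.index = Nat.card (Sylow 2 ↥M) from T.card_eq_index_normalizer.symm, hnine] at hidxM
    have hMN : Nat.card ↥M ∣ 504 := hN504 ▸ Subgroup.card_dvd_of_le hM
    have h8 : 8 ∣ Nat.card ↥NT := hT8 ▸ Subgroup.card_dvd_of_le Subgroup.le_normalizer
    have h56 : Nat.card ↥NT ∣ 56 := by
      rw [← hidxM, mul_comm, show (504 : ℕ) = 9 * 56 from rfl] at hMN
      exact Nat.dvd_of_mul_dvd_mul_left (by norm_num) hMN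
    obtain ⟨c, hc⟩ := h8
    rw [hc, show (56 : ℕ) = 8 * 7 from rfl] at h56
    rcases (Nat.dvd_prime (by norm_num)).1 (Nat.dvd_of_mul_dvd_mul_left (by norm_num) h56) with rfl | rfl
    swap
    · refine Subgroup.eq_of_le_of_card_ge hM ?_
      rw [hN504, ← hidxM, hc]
    exfalso
    -- a self-normalizing abelian Sylow subgroup has a normal complement
    have hNTeq : NT = (T : Subgroup ↥M) :=
      (Subgroup.eq_of_le_of_card_ge Subgroup.le_normalizer (by rw [hT8, hc])).symm
    have hP : Subgroup.normalizer ((T : Subgroup ↥M) : Set ↥M) ≤ Subgroup.centralizer ((T : Subgroup ↥M) : Set ↥M) := by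
      rw [← hNT, hNTeq]
      intro x hx y hy
      have hxy : ((x : G) * y) * (x * y) = 1 := sylow_two_elementary hK S (mul_mem
        (Subgroup.mem_subgroupOf.1 hx) (Subgroup.mem_subgroupOf.1 hy))
      have hxx : (x : G) * x = 1 := sylow_two_elementary hK S (Subgroup.mem_subgroupOf.1 hx)
      have hyy : (y : G) * y = 1 := sylow_two_elementary hK S (Subgroup.mem_subgroupOf.1 hy)
      refine Subtype.ext ?_
      show (y : G) * x = x * y
      calc (y : G) * x = (y : G)⁻¹ * (x : G)⁻¹ := by
            rw [inv_eq_of_mul_eq_one_right hxx, inv_eq_of_mul_eq_one_right hyy]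
        _ = ((x : G) * y)⁻¹ := (mul_inv_rev _ _).symm
        _ = x * y := inv_eq_of_mul_eq_one_right hxy
    set f := MonoidHom.transferSylow T hP
    have hcompl := (MonoidHom.ker_transferSylow_isComplement' T hP).card_mul
    rw [hT8, ← hidxM, hc] at hcompl
    have hR9 : Nat.card ↥f.ker = 9 := by
      have hcompl' : Nat.card ↥f.ker * 8 = 8 * 1 * 9 := hcompl
      omega
    have hmem : ∀ x : ↥M, x ^ 9 = 1 → x ∈ f.ker := fun x hx => by
      rw [MonoidHom.mem_ker]
      have h1 : f x ^ 9 = 1 := by rw [← map_pow, hx, map_one]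
      have h2 : f x ^ 8 = 1 := by
        have := pow_card_eq_one' (x := f x)
        rwa [hT8] at this
      rwa [pow_succ, h2, one_mul] at h1
    let R := f.ker.map M.subtype
    have hRcard : Nat.card ↥R = 9 := by
      rw [Nat.card_congr (f.ker.equivMapOfInjective _ M.subtype_injective).symm.toEquiv, hR9]
    have hRn : N ≤ Subgroup.normalizer (R : Set G) := by
      have key : ∀ g ∈ N, ∀ x ∈ R, g * x * g⁻¹ ∈ R := by
        rintro g hg _ ⟨x, hx, rfl⟩
        refine ⟨⟨g * x * g⁻¹, (Subgroup.mem_normalizer_iff.1 (hn hg) _).1 x.2⟩, hmem _ (Subtype.ext ?_), rfl⟩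
        have h9 : x ^ 9 = 1 := by
          have := pow_card_eq_one' (x := (⟨x, hx⟩ : f.ker))
          rw [hR9] at this
          exact congrArg Subtype.val this
        show (g * (x : G) * g⁻¹) ^ 9 = 1
        rw [conj_pow, ← Subgroup.coe_pow, h9, Subgroup.coe_one, mul_one, mul_inv_cancel]
      intro g hg
      refine Subgroup.mem_normalizer_iff.2 fun x => ⟨key g hg x, fun hx => ?_⟩
      have := key g⁻¹ (inv_mem hg) _ hx
      rwa [show g⁻¹ * (g * x * g⁻¹) * g⁻¹⁻¹ = x by group] at this
    have := odd_case R ((Subgroup.map_subtype_le _).trans hM) hRn (by rw [hRcard]; norm_num)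
    rw [this, Subgroup.card_bot] at hRcard
    omega
  -- identification of the commutator subgroup
  have hle : commutator G ≤ N := Abelianization.commutator_subset_ker φ
  have hne : commutator G ≠ ⊥ := by
    intro h
    have hcomm : ∀ x y : G, x * y = y * x := fun x y => by
      have : ⁅x, y⁆ ∈ commutator G := Subgroup.commutator_mem_commutator (Subgroup.mem_top x) (Subgroup.mem_top y)
      rw [h, Subgroup.mem_bot, commutatorElement_eq_one_iff_mul_comm] at this
      exact this
    have h24 : Nat.card ↥(Subgroup.centralizer ({a} : Set G)) = 24 := by rw [card_centralizer hK, hK]; norm_num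
    rw [show Subgroup.centralizer ({a} : Set G) = ⊤ from eq_top_iff.2 fun x _ =>
      Subgroup.mem_centralizer_singleton_iff.2 (hcomm x a), Subgroup.card_top, card_three hK] at h24
    omega
  have heq : commutator G = N :=
    (hsimple _ hle ((le_top).trans_eq (Subgroup.normalizer_eq_top (commutator G)).symm)).resolve_left hne
  rw [heq]
  refine ⟨hN504, ?_⟩
  haveI : Nontrivial ↥N := Finite.one_lt_card_iff_nontrivial.1 (by rw [hN504]; norm_num)
  refine ⟨fun M hM => ?_⟩
  rcases hsimple (M.map N.subtype) (Subgroup.map_subtype_le _) (by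
    intro g hg
    rw [Subgroup.mem_normalizer_iff]
    intro x
    constructor
    · rintro ⟨y, hy, rfl⟩
      exact ⟨⟨g, hg⟩ * y * ⟨g, hg⟩⁻¹, hM.conj_mem y hy _, rfl⟩
    · rintro ⟨y, hy, he⟩
      refine ⟨⟨g, hg⟩⁻¹ * y * ⟨g, hg⟩, by simpa using hM.conj_mem y hy (⟨g, hg⟩⁻¹), ?_⟩
      show g⁻¹ * (y : G) * g = x
      rw [show (y : G) = g * x * g⁻¹ from he]
      group) with h | h
  · exact Or.inl ((Subgroup.map_eq_bot_iff_of_injective M N.subtype_injective).1 h)
  · refine Or.inr (Subgroup.map_injective N.subtype_injective ?_)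
    rw [h, ← MonoidHom.range_eq_map, Subgroup.range_subtype]

end Cfsg.Lib.ReeThree
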